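import Mathlib.RingTheory.Flat.Basic
import Mathlib.RingTheory.TensorProduct.Maps
import Mathlib.LinearAlgebra.TensorProduct.Finiteness
import Mathlib.LinearAlgebra.Matrix.Determinant.Basic
import Mathlib.Algebra.MvPolynomial.Funext
import Mathlib.Algebra.Category.Ring.Constructions
import Mathlib.LinearAlgebra.Matrix.NonsingularInverse
import Mathlib.LinearAlgebra.Dimension.StrongRankCondition

/-!
Flat descent of equivariant matrices, and a general position argument over an infinite field.
-/

set_option autoImplicit false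

universe u

open TensorProduct CategoryTheory CategoryTheory.Limits

namespace Groth.Agent.H60.GLSpecial

/-- A pushout square of rings presents the corner as a tensor product. -/
theorem bijective_lift_of_isPushout {A B B' C : Type u} [CommRing A] [CommRing B] [CommRing B'] [CommRing C]
    [Algebra A B] [Algebra A B'] [Algebra A C] (p : B →ₐ[A] C) (q : B' →ₐ[A] C)
    (h : IsPushout (CommRingCat.ofHom (algebraMap A B)) (CommRingCat.ofHom (algebraMap A B'))
      (CommRingCat.ofHom p.toRingHom) (CommRingCat.ofHom q.toRingHom)) :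
    Function.Bijective (Algebra.TensorProduct.lift p q fun _ _ => Commute.all _ _) := by
  let e := (CommRingCat.isPushout_tensorProduct A B B').isoIsPushout (CommRingCat.of B) (CommRingCat.of B') h
  have h1 : ∀ b, e.hom (b ⊗ₜ (1 : B')) = p b := fun b =>
    congr($((CommRingCat.isPushout_tensorProduct A B B').inl_isoIsPushout_hom (CommRingCat.of B) (CommRingCat.of B') h).hom b)
  have h2 : ∀ b, e.hom ((1 : B) ⊗ₜ b) = q b := fun b =>
    congr($((CommRingCat.isPushout_tensorProduct A B B').inr_isoIsPushout_hom (CommRingCat.of B) (CommRingCat.of B') h).hom b)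
  have he : ∀ z, Algebra.TensorProduct.lift p q (fun _ _ => Commute.all _ _) z = e.hom z := fun z => by
    induction z using TensorProduct.induction_on with
    | zero => rw [map_zero]; exact (map_zero e.hom.hom).symm
    | tmul x y =>
      rw [Algebra.TensorProduct.lift_tmul, ← h1, ← h2]
      exact ((map_mul e.hom.hom _ _).symm.trans (by rw [Algebra.TensorProduct.tmul_mul_tmul, mul_one, one_mul]))
    | add x y hx hy => rw [map_add, hx, hy]; exact (map_add e.hom.hom _ _).symm
  exact (funext he : _ = ⇑e.hom) ▸ e.commRingCatIsoToRingEquiv.bijective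

variable {A B C D : Type u} [CommRing A] [CommRing B] [CommRing C] [CommRing D]
  [Algebra A B] [Algebra A C] [Algebra A D] {n : ℕ}

/-- Equivariant matrices span the unit matrix. -/
theorem exists_span [Module.Flat A B] (p q : B →ₐ[A] C)
    (hsurj : Function.Surjective (Algebra.TensorProduct.lift p q fun _ _ => Commute.all _ _))
    (a : C →ₐ[A] D) (q₂ : B →ₐ[A] D)
    (hinj : Function.Injective (Algebra.TensorProduct.lift a q₂ fun _ _ => Commute.all _ _))
    (c₁ c₂ : C →+* D) (hap : ∀ b, a (p b) = c₁ (p b)) (haq : ∀ b, a (q b) = c₂ (p b))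
    (hq₁ : ∀ b, q₂ b = c₁ (q b)) (hq₂ : ∀ b, q₂ b = c₂ (q b))
    (P : Matrix (Fin n) (Fin n) C) (hc : P.map c₁ = P.map a * P.map c₂)
    (e : C →+* B) (hep : ∀ b, e (p b) = b) (heq : ∀ b, e (q b) = b) (heP : P.map e = 1) :
    ∃ (ι : Type u) (_ : Fintype ι) (w : ι → Matrix (Fin n) (Fin n) B) (b : ι → B),
      (∀ i, (w i).map p = P * (w i).map q) ∧ ∑ i, b i • w i = 1 := by
  classical
  let δ : Matrix (Fin n) (Fin n) B →ₗ[A] Matrix (Fin n) (Fin n) C :=
    p.toLinearMap.mapMatrix - (LinearMap.mulLeft A P).comp q.toLinearMap.mapMatrix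
  have hδ : ∀ M, δ M = M.map p - P * M.map q := fun M => rfl
  choose x hx using fun ij : Fin n × Fin n => hsurj (P ij.1 ij.2)
  let z : Matrix (Fin n) (Fin n) B ⊗[A] B :=
    ∑ ij : Fin n × Fin n, (Matrix.singleLinearMap A ij.1 ij.2).rTensor B (x ij)
  have hent : ∀ i j, (Matrix.entryLinearMap A B i j).rTensor B z = x (i, j) := fun i j => by
    rw [map_sum, Finset.sum_eq_single (i, j)]
    · rw [← LinearMap.rTensor_comp_apply]
      have h1 : (Matrix.entryLinearMap A B i j).comp (Matrix.singleLinearMap A i j) = LinearMap.id :=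
        LinearMap.ext fun b => Matrix.single_apply_same i j b
      rw [h1, LinearMap.rTensor_id, LinearMap.id_apply]
    · intro ij _ hne
      rw [← LinearMap.rTensor_comp_apply]
      have h1 : (Matrix.entryLinearMap A B i j).comp (Matrix.singleLinearMap A ij.1 ij.2) = 0 :=
        LinearMap.ext fun b => Matrix.single_apply_of_ne _ _ _ _ _ fun hh => hne (Prod.ext hh.1 hh.2)
      rw [h1, LinearMap.rTensor_zero, LinearMap.zero_apply]
    · intro h
      exact absurd (Finset.mem_univ _) h
  obtain ⟨T, hT⟩ := TensorProduct.exists_finset z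
  have hP : ∀ i j, P i j = ∑ m ∈ T, p (m.1 i j) * q m.2 := fun i j => by
    rw [← hx (i, j), ← hent, hT, map_sum, map_sum]
    simp
  have hker : δ.rTensor B z = 0 := by
    have hall : ∀ i j, (Matrix.entryLinearMap A C i j).rTensor B (δ.rTensor B z) = 0 := fun i j => by
      apply hinj
      rw [map_zero, ← LinearMap.rTensor_comp_apply, hT, map_sum, map_sum]
      simp only [LinearMap.rTensor_tmul, LinearMap.comp_apply, Algebra.TensorProduct.lift_tmul,
        Matrix.entryLinearMap_apply, hδ, Matrix.sub_apply, Matrix.map_apply, Matrix.mul_apply, map_sub,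
        map_sum, map_mul, sub_mul, Finset.sum_sub_distrib, Finset.sum_mul]
      rw [Finset.sum_comm, sub_eq_zero]
      refine (?_ : _ = c₁ (P i j)).trans ?_
      · rw [hP, map_sum]
        exact Finset.sum_congr rfl fun m _ => by rw [map_mul, hap, hq₁]
      rw [show c₁ (P i j) = ∑ l, a (P i l) * c₂ (P l j) from congrFun (congrFun hc i) j]
      refine Finset.sum_congr rfl fun l _ => ?_
      rw [hP l j, map_sum, Finset.mul_sum]
      exact Finset.sum_congr rfl fun m _ => by rw [map_mul, ← haq, ← hq₂, mul_assoc]
    have h1 : ∑ ij : Fin n × Fin n, (Matrix.singleLinearMap A ij.1 ij.2).comp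
        (Matrix.entryLinearMap A C ij.1 ij.2) = LinearMap.id := LinearMap.ext fun M => by
      rw [LinearMap.sum_apply, Fintype.sum_prod_type]
      exact (Matrix.matrix_eq_sum_single M).symm
    have hid := congrArg (fun f => LinearMap.rTensorHom B f (δ.rTensor B z)) h1
    simp only [map_sum, LinearMap.sum_apply, LinearMap.coe_rTensorHom, LinearMap.rTensor_id, LinearMap.id_apply] at hid
    refine hid.symm.trans ?_
    exact Finset.sum_eq_zero fun ij _ => by rw [LinearMap.rTensor_comp_apply, hall, map_zero]
  obtain ⟨y, hy⟩ := (Module.Flat.rTensor_exact B (LinearMap.exact_subtype_ker_map δ) z).1 hker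
  obtain ⟨T', hT'⟩ := TensorProduct.exists_finset y
  refine ⟨↥T', inferInstance, fun m => m.1.1, fun m => m.1.2, fun m => sub_eq_zero.1 ((hδ _).symm.trans m.1.1.2), ?_⟩
  ext i j
  have h1 := hx (i, j)
  rw [← hent, ← hy, hT', map_sum, map_sum, map_sum] at h1
  have h2 := congrArg e h1
  rw [show e (P i j) = (1 : Matrix (Fin n) (Fin n) B) i j from congrFun (congrFun heP i) j, map_sum] at h2
  rw [← h2, Matrix.sum_apply, ← Finset.sum_coe_sort T']
  refine Finset.sum_congr rfl fun m _ => ?_
  simp [hep, heq, mul_comm]

/-- Columns of matrices spanning the unit matrix give an invertible matrix at a point. -/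
theorem exists_cols_det_ne_zero {κ : Type u} [Field κ] (ev : B →+* κ)
    {ι : Type*} [Fintype ι] (w : ι → Matrix (Fin n) (Fin n) B) (b : ι → B) (h : ∑ i, b i • w i = 1) :
    ∃ f : Fin n → ι × Fin n, ev (Matrix.of fun r c => w (f c).1 r (f c).2).det ≠ 0 := by
  classical
  let u : ι × Fin n → Fin n → κ := fun ic r => ev (w ic.1 r ic.2)
  have hspan : Submodule.span κ (Set.range u) = ⊤ := by
    refine top_le_iff.1 fun v _ => ?_
    rw [← (Pi.basisFun κ (Fin n)).sum_repr v]
    refine Submodule.sum_mem _ fun c _ => Submodule.smul_mem _ _ ?_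
    rw [show Pi.basisFun κ (Fin n) c = ∑ i, ev (b i) • u (i, c) from ?_]
    · exact Submodule.sum_mem _ fun i _ => Submodule.smul_mem _ _ (Submodule.subset_span ⟨(i, c), rfl⟩)
    funext r
    have h1 := congrArg ev (congrFun (congrFun h r) c)
    rw [Matrix.sum_apply, map_sum] at h1
    simp only [Matrix.smul_apply, smul_eq_mul, map_mul] at h1
    rw [Pi.basisFun_apply, Finset.sum_apply]
    simp only [Pi.smul_apply, smul_eq_mul, u, h1, Matrix.one_apply, Pi.single_apply]
    split_ifs <;> simp
  have hfin : Module.finrank κ (Submodule.span κ (Set.range u)) = n := by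
    rw [hspan, finrank_top, Module.finrank_fin_fun]
  obtain ⟨g, hg, -, hli⟩ := Submodule.exists_fun_fin_finrank_span_eq κ (Set.range u)
  choose f hf using hg
  refine ⟨fun c => f (Fin.cast hfin.symm c), IsUnit.ne_zero ?_⟩
  rw [RingHom.map_det, ← Matrix.isUnit_iff_isUnit_det, ← Matrix.linearIndependent_cols_iff_isUnit]
  convert hli.comp _ (Fin.cast_injective hfin.symm) using 1
  · funext c r
    exact congrFun (hf (Fin.cast hfin.symm c)) r
  · rfl

/-- A combination with coefficients from an infinite field with non-zero determinant at a point. -/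
theorem exists_det_ne_zero {k κ : Type u} [Field k] [Infinite k] [Field κ] (c : k →+* B) (ev : B →+* κ)
    {ι : Type*} [Fintype ι] (w : ι → Matrix (Fin n) (Fin n) B) (b : ι → B) (h : ∑ i, b i • w i = 1) :
    ∃ t : ι → k, ev (∑ i, c (t i) • w i).det ≠ 0 := by
  classical
  let Q : MvPolynomial ι κ :=
    (∑ i, (MvPolynomial.X i : MvPolynomial ι κ) • ((w i).map ev).map MvPolynomial.C).det
  have hQ : ∀ s : ι → B, MvPolynomial.eval (ev ∘ s) Q = ev (∑ i, s i • w i).det := fun s => by
    rw [RingHom.map_det, RingHom.map_det]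
    congr 1
    ext i j
    simp [Matrix.sum_apply, map_sum]
  by_contra hcon
  simp only [not_exists, not_not] at hcon
  have hQ0 : Q = 0 := by
    refine MvPolynomial.funext_set (fun _ => Set.range (ev.comp c))
      (fun _ => Set.infinite_range_of_injective (ev.comp c).injective) fun x hx => ?_
    rw [map_zero]
    choose t ht using fun i => hx i (Set.mem_univ i)
    rw [show x = ev ∘ fun i => c (t i) from funext fun i => (ht i).symm, hQ]
    exact hcon t
  have h1 := hQ b
  rw [h, hQ0, map_zero, Matrix.det_one, map_one] at h1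
  exact zero_ne_one h1

end Groth.Agent.H60.GLSpecial
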