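import Groth.Agent.H60.GLSpecial.Retract
import Groth.Agent.Lib.RedPts.Affine
import Groth.Prelude.Def_Red2
import Groth.Agent.Lib.GrpQ.DomFlat

/-!
Split tori and the additive group are special.
-/

set_option autoImplicit false
set_option backward.isDefEq.respectTransparency false

universe u

open CategoryTheory MonoidalCategory CartesianMonoidalCategory MonObj AlgebraicGeometry
open Groth.Agent.Lib.RedPts Groth.Agent.Lib.GrpQ

namespace Groth.Agent.H60.GLSpecial

attribute [local instance] Points.baseAlgebra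

noncomputable section

variable {k : Type u} [Field k] [Infinite k]

/-- A group is special. -/
def Special (G : Over (Spec (CommRingCat.of k))) [GrpObj G] : Prop :=
  ∀ (X Y : Over (Spec (CommRingCat.of k))) (b : AlgGrp.Action G X) (ψ : X ⟶ Y),
    IsPullback b.act (snd G X) ψ ψ →
    NonAbH1.IsLocallyTrivialFor Scheme.fpqcPrecoverage (Over.mk ψ.left : Over Y.left) →
    NonAbH1.IsLocallyTrivialFor Scheme.zariskiPrecoverage (Over.mk ψ.left : Over Y.left)

instance isAffineHom_spHom (A : Type u) [CommRing A] [Algebra k A] : IsAffineHom (AffQ.sp k A).hom :=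
  haveI : IsAffine (AffQ.sp k A).left := inferInstanceAs (IsAffine (Spec (CommRingCat.of A)))
  isAffineHom_of_isAffine _

instance flat_spHom (A : Type u) [CommRing A] [Algebra k A] : Flat (AffQ.sp k A).hom := by
  show Flat (Spec.map (CommRingCat.ofHom (algebraMap k A)))
  rw [HasRingHomProperty.Spec_iff (P := @Flat)]
  exact RingHom.flat_algebraMap_iff.2 inferInstance

section Torus

variable (k) (r : ℕ)

/-- The matrix of coordinate functions of a split torus. -/
def torP : Matrix (Fin r) (Fin r) Γ((Red.diag k (Fin r → ℤ)).left, ⊤) :=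
  Matrix.diagonal fun i => Affine.diagFn (𝟙 (Red.diag k (Fin r → ℤ))) (Pi.single i 1)

omit [Infinite k] in
theorem pbM_torP {T : Over (Spec (CommRingCat.of k))} (g : T ⟶ Red.diag k (Fin r → ℤ)) :
    RepMat.pbM g (torP k r) = Matrix.diagonal fun i => Affine.diagFn g (Pi.single i 1) := by
  rw [RepMat.pbM, torP, Matrix.diagonal_map (map_zero _)]
  congr 1

omit [Infinite k] in
/-- Its representation. -/
def torRep : RepMat.Rep (Red.diag k (Fin r → ℤ)) r where
  P := torP k r
  mul g h := by simp only [pbM_torP, Affine.diagFn_mul, Matrix.diagonal_mul_diagonal]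
  one := by intro T; simp only [pbM_torP, Affine.diagFn_one, Matrix.diagonal_one]

omit [Infinite k] in
/-- Characters from invertible values. -/
def zpowHom {R : Type u} [CommRing R] (v : Fin r → Rˣ) : Multiplicative (Fin r → ℤ) →* R where
  toFun m := ((∏ i, v i ^ m.toAdd i : Rˣ) : R)
  map_one' := by simp
  map_mul' a b := by simp [zpow_add, Finset.prod_mul_distrib]

omit [Infinite k] in
theorem zpowHom_single {R : Type u} [CommRing R] (v : Fin r → Rˣ) (i : Fin r) :
    zpowHom r v (Multiplicative.ofAdd (Pi.single i 1)) = v i := by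
  show ((∏ j, v j ^ (Pi.single i (1 : ℤ) : Fin r → ℤ) j : Rˣ) : R) = v i
  rw [Finset.prod_eq_single i (fun j _ hj => by simp [hj]) (fun h => absurd (Finset.mem_univ i) h)]
  simp

omit [Infinite k] in
theorem diagFn_ext' {T : Over (Spec (CommRingCat.of k))} {g h : T ⟶ Red.diag k (Fin r → ℤ)}
    (H : ∀ i, Affine.diagFn g (Pi.single i 1) = Affine.diagFn h (Pi.single i 1)) : g = h := by
  let f : ∀ g : T ⟶ Red.diag k (Fin r → ℤ), Multiplicative (Fin r → ℤ) →* Γ(T.left, ⊤)ˣ := fun g =>
    MonoidHom.toHomUnits
      { toFun := fun m => Affine.diagFn g m.toAdd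
        map_one' := Affine.diagFn_zero g
        map_mul' := fun a b => Affine.diagFn_add g a.toAdd b.toAdd }
  have e : f g = f h := by
    refine MonoidHom.toAdditiveRight.injective (AddMonoidHom.functions_ext' _ _ _ fun i => AddMonoidHom.ext_int ?_)
    exact Units.ext (H i)
  exact Affine.diagFn_ext fun m => congrArg Units.val (congr($e (Multiplicative.ofAdd m)))

/-- Split tori are special. -/
theorem special_torus : Special (Red.diag k (Fin r → ℤ)) := by
  intro X Y b ψ hcart hloc
  haveI : IsAffineHom (Red.diag k (Fin r → ℤ)).hom := isAffineHom_spHom _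
  haveI : Flat (Red.diag k (Fin r → ℤ)).hom := flat_spHom _
  let D : ∀ {R : Type u} [CommRing R], Matrix (Fin r) (Fin r) R → R := fun M => ∏ i, M i i
  have hu : ∀ {T : Over (Spec (CommRingCat.of k))} (M : Matrix (Fin r) (Fin r) Γ(T.left, ⊤)),
      IsUnit (D M) → ∀ i, IsUnit (M i i) := fun M h i => (IsUnit.prod_iff.1 h) i (Finset.mem_univ i)
  refine Ret.isLocallyTrivialFor_zariski D (fun f M => by simp [D, map_prod])
    (fun {R} _ => by simp [D]) (torRep k r) (fun {T} g M => ?_)
    (fun {T} M h => Affine.diagPt (zpowHom r fun i => (hu M h i).unit)) (fun {T T'} t M h h' => ?_)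
    (fun {T} g M h h' => ?_) b ψ hcart hloc
  · refine ⟨∏ i, Affine.diagFn g (Pi.single i 1), IsUnit.prod_iff.2 fun i _ => ?_, ?_⟩
    · exact IsUnit.of_mul_eq_one (Affine.diagFn g (-Pi.single i 1))
        (by rw [← Affine.diagFn_add, add_neg_cancel, Affine.diagFn_zero])
    · show ∏ i, (RepMat.pbM g (torP k r) * M) i i = _
      simp [pbM_torP, Matrix.diagonal_mul, Finset.prod_mul_distrib, D]
  · refine diagFn_ext' k r fun i => ?_
    rw [Affine.diagFn_comp, Affine.diagFn_diagPt, Affine.diagFn_diagPt, zpowHom_single, zpowHom_single]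
    rfl
  · refine diagFn_ext' k r fun i => ?_
    rw [Affine.diagFn_mul, Affine.diagFn_diagPt, Affine.diagFn_diagPt, zpowHom_single, zpowHom_single]
    show (RepMat.pbM g (torP k r) * M) i i = _
    rw [pbM_torP, Matrix.diagonal_mul]
    rfl

end Torus

section Additive

variable (k)

/-- The additive group over `k`. -/
abbrev GaK : Over (Spec (CommRingCat.of k)) :=
  (Spec (CommRingCat.of (SymmetricAlgebra k k))).asOver (Spec (CommRingCat.of k))

/-- The matrix of the additive group. -/
def gaP : Matrix (Fin 2) (Fin 2) Γ((GaK k).left, ⊤) := !![1, Affine.symFn (𝟙 (GaK k)); 0, 1]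

omit [Infinite k] in
theorem symFn_comp {T T' : Over (Spec (CommRingCat.of k))} (t : T' ⟶ T) (g : T ⟶ GaK k) :
    Affine.symFn (t ≫ g) = t.left.appTop (Affine.symFn g) := Points.ringHomOf_comp t.left _ _

omit [Infinite k] in
theorem pbM_gaP {T : Over (Spec (CommRingCat.of k))} (g : T ⟶ GaK k) :
    RepMat.pbM g (gaP k) = !![1, Affine.symFn g; 0, 1] := by
  ext i j
  fin_cases i <;> fin_cases j <;>
    first
      | exact map_one g.left.appTop.hom
      | exact map_zero g.left.appTop.hom
      | exact (symFn_comp k g (𝟙 (GaK k))).symm.trans (by rw [Category.comp_id]; rfl)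

omit [Infinite k] in
theorem symFn_one {T : Over (Spec (CommRingCat.of k))} : Affine.symFn (1 : T ⟶ GaK k) = 0 := by
  have h := Affine.symFn_mul (1 : T ⟶ GaK k) 1
  rw [_root_.mul_one] at h
  exact left_eq_add.1 h

omit [Infinite k] in
/-- Its representation. -/
def gaRep : RepMat.Rep (GaK k) 2 where
  P := gaP k
  mul g h := by
    simp only [pbM_gaP, Affine.symFn_mul, Matrix.mul_fin_two]
    simp [add_comm]
  one := by intro T; rw [pbM_gaP, symFn_one, Matrix.one_fin_two]

/-- The additive group is special. -/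
theorem special_Ga : Special (GaK k) := by
  intro X Y b ψ hcart hloc
  let D : ∀ {R : Type u} [CommRing R], Matrix (Fin 2) (Fin 2) R → R := fun M => M 1 1
  refine Ret.isLocallyTrivialFor_zariski D (fun f M => rfl) (fun {R} _ => rfl) (gaRep k)
    (fun {T} g M => ⟨1, isUnit_one, ?_⟩)
    (fun {T} M h => Classical.choose (Affine.symFn_surjective (R := k) (W := T) (M 0 1 * ↑h.unit⁻¹)))
    (fun {T T'} t M h h' => ?_) (fun {T} g M h h' => ?_) b ψ hcart hloc
  · show (RepMat.pbM g (gaP k) * M) 1 1 = _
    simp [pbM_gaP, Matrix.mul_apply, Fin.sum_univ_two, D]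
  · refine Affine.symFn_injective ?_
    rw [symFn_comp, Classical.choose_spec (Affine.symFn_surjective _),
      Classical.choose_spec (Affine.symFn_surjective _), map_mul]
    refine congrArg _ (eq_comm.1 ?_)
    refine Units.inv_eq_of_mul_eq_one_right ?_
    rw [show ((h'.unit : Γ(T'.left, ⊤)ˣ) : Γ(T'.left, ⊤)) = t.left.appTop (M 1 1) from h'.unit_spec, ← map_mul,
      IsUnit.mul_val_inv, map_one]
  · refine Affine.symFn_injective ?_
    rw [Affine.symFn_mul, Classical.choose_spec (Affine.symFn_surjective _),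
      Classical.choose_spec (Affine.symFn_surjective _)]
    have e : h'.unit = h.unit := Units.ext (by
      show (RepMat.pbM g (gaP k) * M) 1 1 = M 1 1
      simp [pbM_gaP, Matrix.mul_apply, Fin.sum_univ_two])
    rw [e, show (RepMat.pbM g (gaRep k).P * M) 0 1 = M 0 1 + Affine.symFn g * M 1 1 from by
      show (RepMat.pbM g (gaP k) * M) 0 1 = _
      simp [pbM_gaP, Matrix.mul_apply, Fin.sum_univ_two], add_mul, _root_.mul_assoc, IsUnit.mul_val_inv,
      _root_.mul_one, add_comm]

end Additive

end

end Groth.Agent.H60.GLSpecial
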