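import Groth.Agent.Lib.GrpQ.RepMat

/-!
The tautological representation of the general linear group scheme over a field.
-/

set_option autoImplicit false

universe u

open CategoryTheory Limits MonoidalCategory CartesianMonoidalCategory MonObj AlgebraicGeometry
open Groth.Agent.Lib.RedPts Groth.Agent.Lib.GrpQ

namespace Groth.Agent.H60.GLSpecial

attribute [local instance] Points.baseAlgebra

noncomputable section

variable (k : Type u) [Field k] (n : ℕ)

local notation "GL'" => FrB.GLn n (Spec (CommRingCat.of k))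

/-- The matrix of coordinates. -/
def uniP : Matrix (Fin n) (Fin n) Γ((FrB.GLn n (Spec (CommRingCat.of k))).left, ⊤) :=
  Matrix.of fun i j => Points.algHomOf (R := ULift.{u} ℤ) (BC.down (RepMat.toZ k) (𝟙 GL')) (CoordGrp.GLn.X i j)

variable {k n}

theorem pbM_uniP {T : Over (Spec (CommRingCat.of k))} (g : T ⟶ GL') (i j : Fin n) :
    RepMat.pbM g (uniP k n) i j =
      Points.algHomOf (R := ULift.{u} ℤ) (BC.down (RepMat.toZ k) g) (CoordGrp.GLn.X i j) := by
  conv_rhs => rw [show g = g ≫ 𝟙 GL' from (Category.comp_id g).symm, BC.down_comp]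
  exact (Points.ringHomOf_comp _ _ _).symm

variable (k n)

/-- The tautological representation. -/
def uniRep : RepMat.Rep (FrB.GLn n (Spec (CommRingCat.of k))) n where
  P := uniP k n
  mul g h := by
    ext i j
    rw [pbM_uniP, BC.down_mul, Points.algHomOf_mul, CoordGrp.GLn.comul_X]
    simp only [map_sum, Algebra.TensorProduct.lift_tmul, Matrix.mul_apply, pbM_uniP]
  one := by
    intro T
    ext i j
    rw [pbM_uniP, BC.down_one, Points.algHomOf_one, CoordGrp.GLn.counit_X, Matrix.one_apply]
    split_ifs <;> simp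

variable {k n}

theorem uniRep_ext {T : Over (Spec (CommRingCat.of k))} (g g' : T ⟶ GL')
    (h : RepMat.pbM g (uniRep k n).P = RepMat.pbM g' (uniRep k n).P) : g = g' := by
  apply BC.down_injective
  refine RepMat.glnPoint_ext _ _ fun i j => ?_
  rw [← pbM_uniP, ← pbM_uniP]
  exact congrFun (congrFun h i) j

theorem uniRep_surj {T : Over (Spec (CommRingCat.of k))} (M : Matrix (Fin n) (Fin n) Γ(T.left, ⊤))
    (hM : IsUnit M.det) : ∃ g : T ⟶ GL', RepMat.pbM g (uniRep k n).P = M := by
  obtain ⟨d, hd⟩ := hM.exists_right_inv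
  refine ⟨BC.up (RepMat.toZ k) (Points.pointOf (R := ULift.{u} ℤ) (A := CoordGrp.GLn n (ULift.{u} ℤ))
    (W := (Over.map (RepMat.toZ k)).obj T)
    (CoordGrp.GLn.pt n (ULift.{u} ℤ) (B := Γ(((Over.map (RepMat.toZ k)).obj T).left, ⊤)) M d hd)), ?_⟩
  ext i j
  show RepMat.pbM _ (uniP k n) i j = _
  rw [pbM_uniP, BC.down_up, Points.algHomOf_pointOf, CoordGrp.GLn.pt_X]

end

end Groth.Agent.H60.GLSpecial
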