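import Groth.Agent.H60.GLSpecial.Algebra
import Groth.Agent.H60.GlueQ.Restrict
import Groth.Agent.H60.TorsorGeom
import Groth.Agent.H60.TorsorComp
import Groth.Agent.H60.TorsorCat
import Groth.Agent.H60.AssocBundle
import Groth.Agent.Lib.GrpQ.RepMat
import Mathlib.AlgebraicGeometry.ResidueField
import Mathlib.AlgebraicGeometry.Morphisms.Flat
import Mathlib.AlgebraicGeometry.Sites.Fpqc

/-!
A torsor under a matrix group whose points are all invertible matrices is Zariski locally trivial.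
-/

set_option autoImplicit false
set_option backward.isDefEq.respectTransparency false

universe u

open CategoryTheory CategoryTheory.Limits AlgebraicGeometry MonoidalCategory CartesianMonoidalCategory MonObj
open Groth.Agent.Lib Groth.Agent.Lib.GrpQ
open Groth.Agent.H60.GlueQ (sub incl Stable resAct)

namespace Groth.Agent.H60.GLSpecial

noncomputable section

variable {k : Type u} [Field k] {G X Y : Over (Spec (CommRingCat.of k))} [GrpObj G] {n : ℕ}

/-- A morphism of schemes gives a map of function rings. -/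
abbrev pb {T T' : Over (Spec (CommRingCat.of k))} (g : T ⟶ T') : Γ(T'.left, ⊤) →+* Γ(T.left, ⊤) := g.left.appTop.hom

theorem pb_comp {T T' T'' : Over (Spec (CommRingCat.of k))} (g : T ⟶ T') (h : T' ⟶ T'') (x : Γ(T''.left, ⊤)) :
    pb (g ≫ h) x = pb g (pb h x) := rfl

theorem pb_id {T : Over (Spec (CommRingCat.of k))} (x : Γ(T.left, ⊤)) : pb (𝟙 T) x = x := rfl

theorem pbM_mul {T T' : Over (Spec (CommRingCat.of k))} (g : T ⟶ T') (P Q : Matrix (Fin n) (Fin n) Γ(T'.left, ⊤)) :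
    RepMat.pbM g (P * Q) = RepMat.pbM g P * RepMat.pbM g Q := Matrix.map_mul

/-- Equivariant matrices with invertible value at a given point of an affine torsor. -/
theorem exists_equivariant (r : RepMat.Rep G n) (a : AlgGrp.Action G X) (φ : X ⟶ Y)
    (hcart : IsPullback a.act (snd G X) φ φ) [IsAffine X.left] [IsAffine Y.left] [Flat φ.left]
    (x₀ : X.left) :
    ∃ M : Matrix (Fin n) (Fin n) Γ(X.left, ⊤),
      RepMat.pbM a.act M = RepMat.pbM (fst G X) r.P * RepMat.pbM (snd G X) M ∧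
        x₀ ∈ X.left.basicOpen M.det := by
  have sq : IsPullback a.act.left (snd G X).left φ.left φ.left := hcart.map (Over.forget _)
  haveI : IsAffine (G ⊗ X).left := IsAffine.of_isPullback sq
  have sq₂ : IsPullback (G ◁ a.act).left (snd G (G ⊗ X) ≫ snd G X).left (snd G X ≫ φ).left φ.left :=
    (GrpSch.isPullback_whiskerLeft G a.act).paste_vert sq
  letI algB : Algebra Γ(Y.left, ⊤) Γ(X.left, ⊤) := (pb φ).toAlgebra
  letI algC : Algebra Γ(Y.left, ⊤) Γ((G ⊗ X).left, ⊤) := (pb (a.act ≫ φ)).toAlgebra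
  letI algD : Algebra Γ(Y.left, ⊤) Γ((G ⊗ (G ⊗ X)).left, ⊤) :=
    ((pb (G ◁ a.act)).comp (pb (a.act ≫ φ))).toAlgebra
  haveI : Module.Flat Γ(Y.left, ⊤) Γ(X.left, ⊤) := φ.left.flat_appTop
  let p : Γ(X.left, ⊤) →ₐ[Γ(Y.left, ⊤)] Γ((G ⊗ X).left, ⊤) :=
    { pb a.act with commutes' := fun _ => rfl }
  let q : Γ(X.left, ⊤) →ₐ[Γ(Y.left, ⊤)] Γ((G ⊗ X).left, ⊤) :=
    { pb (snd G X) with commutes' := fun y => (congrArg (fun m => pb m y) hcart.w).symm }
  let aD : Γ((G ⊗ X).left, ⊤) →ₐ[Γ(Y.left, ⊤)] Γ((G ⊗ (G ⊗ X)).left, ⊤) :=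
    { pb (G ◁ a.act) with commutes' := fun _ => rfl }
  have w₂ : (G ◁ a.act) ≫ a.act ≫ φ = (snd G (G ⊗ X) ≫ snd G X) ≫ φ := by
    rw [hcart.w, ← Category.assoc, whiskerLeft_snd, Category.assoc, hcart.w, Category.assoc]
  let q₂ : Γ(X.left, ⊤) →ₐ[Γ(Y.left, ⊤)] Γ((G ⊗ (G ⊗ X)).left, ⊤) :=
    { pb (snd G (G ⊗ X) ≫ snd G X) with commutes' := fun y => (congrArg (fun m => pb m y) w₂).symm }
  have hpq := bijective_lift_of_isPushout p q (isPushout_appTop_of_isPullback sq)
  have haq := bijective_lift_of_isPushout aD q₂ (by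
    have h := isPushout_appTop_of_isPullback sq₂
    rw [show (snd G X ≫ φ).left.appTop = (a.act ≫ φ).left.appTop by rw [hcart.w]] at h
    exact h)
  let c₁ := lift (fst G (G ⊗ X) * (snd G (G ⊗ X) ≫ fst G X)) (snd G (G ⊗ X) ≫ snd G X)
  have h₁ : (G ◁ a.act) ≫ a.act = c₁ ≫ a.act := by
    have e : (G ◁ a.act) = lift (fst G (G ⊗ X)) (snd G (G ⊗ X) ≫ a.act) := by ext <;> simp
    rw [e, AlgGrp.Action.lift_mul_act, show lift (snd G (G ⊗ X) ≫ fst G X) (snd G (G ⊗ X) ≫ snd G X) =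
      snd G (G ⊗ X) by ext <;> simp]
  obtain ⟨ι', _, w, b, hw, hb⟩ := exists_span p q hpq.surjective aD q₂ haq.injective (pb c₁) (pb (snd G (G ⊗ X)))
    (fun x => congrArg (fun m => pb m x) h₁)
    (fun x => congrArg (fun m => pb m x) (whiskerLeft_snd G a.act))
    (fun x => congrArg (fun m => pb m x) (lift_snd _ _).symm) (fun _ => rfl)
    (RepMat.pbM (fst G X) r.P) (by
      show RepMat.pbM c₁ (RepMat.pbM (fst G X) r.P) =
        RepMat.pbM (G ◁ a.act) (RepMat.pbM (fst G X) r.P) * RepMat.pbM (snd G (G ⊗ X)) (RepMat.pbM (fst G X) r.P)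
      simp only [← RepMat.pbM_comp, c₁, lift_fst, whiskerLeft_fst, r.mul])
    (pb (lift (1 : X ⟶ G) (𝟙 X)))
    (fun x => by
      refine (congrArg (fun m => pb m x) (show lift (1 : X ⟶ G) (𝟙 X) ≫ a.act = 𝟙 X from ?_)).trans rfl
      exact AlgGrp.Action.lift_one_act a _)
    (fun x => (congrArg (fun m => pb m x) (lift_snd (1 : X ⟶ G) (𝟙 X))).trans rfl)
    (by
      show RepMat.pbM (lift (1 : X ⟶ G) (𝟙 X)) (RepMat.pbM (fst G X) r.P) = 1
      rw [← RepMat.pbM_comp, lift_fst, r.one])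
  obtain ⟨f, hf⟩ := exists_cols_det_ne_zero (X.left.evaluation ⊤ x₀ trivial).hom w b hb
  refine ⟨Matrix.of fun i c => w (f c).1 i (f c).2, ?_,
    (X.left.evaluation_ne_zero_iff_mem_basicOpen x₀ (U := ⊤) trivial _).1 hf⟩
  ext i c
  refine (congrFun (congrFun (hw (f c).1) i) (f c).2).trans ?_
  simp only [Matrix.mul_apply, RepMat.pbM, Matrix.map_apply, Matrix.of_apply]
  rfl

variable (r : RepMat.Rep G n)
  (hsurj : ∀ {T : Over (Spec (CommRingCat.of k))} (M : Matrix (Fin n) (Fin n) Γ(T.left, ⊤)), IsUnit M.det →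
    ∃ g : T ⟶ G, RepMat.pbM g r.P = M)
  (hext : ∀ {T : Over (Spec (CommRingCat.of k))} (g g' : T ⟶ G), RepMat.pbM g r.P = RepMat.pbM g' r.P → g = g')

include hsurj hext

/-- The affine case: a section near every point. -/
theorem exists_section_affine [Infinite k] (a : AlgGrp.Action G X) (φ : X ⟶ Y)
    (hcart : IsPullback a.act (snd G X) φ φ) [IsAffine X.left] [IsAffine Y.left] [Flat φ.left] [Surjective φ.left]
    (hsub : Topology.IsQuotientMap φ.left.base) (y : Y.left) :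
    ∃ (W : Y.left.Opens), y ∈ W ∧ ∃ s : W.toScheme ⟶ X.left, s ≫ φ.left = W.ι := by
  obtain ⟨x₀, rfl⟩ := Surjective.surj (f := φ.left) y
  obtain ⟨M, hM, hx₀⟩ := exists_equivariant r a φ hcart x₀
  let V := X.left.basicOpen M.det
  have hPu : IsUnit r.P.det := IsUnit.of_mul_eq_one _ r.det_mul
  have hstab : a.act.left ⁻¹ᵁ V = (snd G X).left ⁻¹ᵁ V := by
    have h1 : a.act.left.appTop M.det = pb (fst G X) r.P.det * (snd G X).left.appTop M.det := by
      have h := congrArg Matrix.det hM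
      rw [Matrix.det_mul] at h
      simp only [RepMat.pbM, ← RingHom.mapMatrix_apply, ← RingHom.map_det] at h
      exact h
    rw [Scheme.preimage_basicOpen_top, Scheme.preimage_basicOpen_top, h1, Scheme.basicOpen_mul,
      Scheme.basicOpen_of_isUnit _ (hPu.map (pb (fst G X))), top_inf_eq]
  have sq : IsPullback a.act.left (snd G X).left φ.left φ.left := hcart.map (Over.forget _)
  let W : Y.left.Opens := ⟨φ.left '' (V : Set X.left), hsub.isOpen_preimage.1 (by
    convert V.2 using 1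
    refine Set.Subset.antisymm ?_ (Set.subset_preimage_image _ _)
    rintro x ⟨v, hv, he⟩
    obtain ⟨z, hz1, hz2⟩ := Scheme.exists_preimage_of_isPullback sq x v he.symm
    have : z ∈ a.act.left ⁻¹ᵁ V := by rw [hstab]; show (snd G X).left z ∈ V; rw [hz2]; exact hv
    exact hz1 ▸ this)⟩
  refine ⟨W, ⟨x₀, hx₀, rfl⟩, ?_⟩
  have hWV : φ.left ⁻¹ᵁ W = V := by
    refine le_antisymm (fun x hx => ?_) fun x hx => ⟨x, hx, rfl⟩
    obtain ⟨v, hv, he⟩ := hx
    obtain ⟨z, hz1, hz2⟩ := Scheme.exists_preimage_of_isPullback sq x v he.symm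
    have : z ∈ a.act.left ⁻¹ᵁ V := by rw [hstab]; show (snd G X).left z ∈ V; rw [hz2]; exact hv
    exact hz1 ▸ this
  let V' : X.left.Opens := φ.left ⁻¹ᵁ W
  have hu : IsUnit (RepMat.pbM (incl V') M).det := by
    rw [show (RepMat.pbM (incl V') M).det = pb (incl V') M.det from (RingHom.map_det _ _).symm]
    refine RingedSpace.isUnit_of_isUnit_germ _ _ _ fun x hx => (RingedSpace.mem_basicOpen _ _ x hx).1 ?_
    have h1 : V'.toScheme.basicOpen (V'.ι.appTop M.det) = ⊤ := by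
      rw [← Scheme.preimage_basicOpen_top, eq_top_iff]
      intro v _
      show v.1 ∈ V
      rw [← hWV]
      exact v.2
    exact h1.ge trivial
  obtain ⟨g, hg⟩ := hsurj (T := sub V') (RepMat.pbM (incl V') M) hu
  let τ : sub V' ⟶ X := lift g⁻¹ (incl V') ≫ a.act
  haveI : Flat (φ.left ∣_ W) := MorphismProperty.of_isPullback (isPullback_morphismRestrict φ.left W).flip ‹Flat φ.left›
  haveI : Surjective (φ.left ∣_ W) :=
    MorphismProperty.of_isPullback (isPullback_morphismRestrict φ.left W).flip ‹Surjective φ.left›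
  haveI : QuasiCompact φ.left := inferInstance
  haveI : QuasiCompact (φ.left ∣_ W) :=
    MorphismProperty.of_isPullback (isPullback_morphismRestrict φ.left W).flip ‹QuasiCompact φ.left›
  have hinv : ∀ {Z : Scheme.{u}} (v₁ v₂ : Z ⟶ V'.toScheme), v₁ ≫ φ.left ∣_ W = v₂ ≫ φ.left ∣_ W →
      v₁ ≫ τ.left = v₂ ≫ τ.left := by
    intro Z v₁ v₂ hv
    have hv' : v₁ ≫ V'.ι ≫ φ.left = v₂ ≫ V'.ι ≫ φ.left := by
      have h := congrArg (· ≫ W.ι) hv
      simpa [morphismRestrict_ι] using h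
    let T : Over (Spec (CommRingCat.of k)) := Over.mk (v₁ ≫ (sub V').hom)
    let u₁ : T ⟶ sub V' := Over.homMk v₁ rfl
    let u₂ : T ⟶ sub V' := Over.homMk v₂ (by
      show v₂ ≫ V'.ι ≫ X.hom = v₁ ≫ V'.ι ≫ X.hom
      rw [← Over.w φ, reassoc_of% hv'])
    obtain ⟨h, hh⟩ := TorsorGeom.exists_act a φ hcart T (u₁ ≫ incl V') (u₂ ≫ incl V') (Over.OverMorphism.ext (by
      simpa [u₁, u₂, GlueQ.incl_left] using hv'))
    have hgh : u₁ ≫ g = h * (u₂ ≫ g) := by
      apply hext
      rw [r.mul, RepMat.pbM_comp, RepMat.pbM_comp, hg, ← RepMat.pbM_comp, ← RepMat.pbM_comp, ← hh,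
        RepMat.pbM_comp, hM, pbM_mul, ← RepMat.pbM_comp, ← RepMat.pbM_comp, lift_fst, lift_snd]
    have e : u₁ ≫ τ = u₂ ≫ τ := by
      simp only [τ, comp_lift_assoc, GrpObj.comp_inv]
      rw [hgh, ← hh, _root_.mul_inv_rev, ← AlgGrp.Action.lift_mul_act, inv_mul_cancel_right]
    exact congrArg (fun m => m.left) e
  let s := EffectiveEpi.desc (φ.left ∣_ W) τ.left fun v₁ v₂ h => hinv v₁ v₂ h
  refine ⟨s, ?_⟩
  rw [← cancel_epi (φ.left ∣_ W), reassoc_of% (EffectiveEpi.fac (φ.left ∣_ W) τ.left fun v₁ v₂ h => hinv v₁ v₂ h),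
    morphismRestrict_ι]
  exact congrArg (fun m => m.left) (show τ ≫ φ = incl V' ≫ φ by
    simp only [τ, Category.assoc, hcart.w, lift_snd_assoc])

/-- Torsors are Zariski locally trivial. -/
theorem isLocallyTrivialFor_zariski [Infinite k] [IsAffineHom G.hom] [Flat G.hom] (a : AlgGrp.Action G X) (φ : X ⟶ Y)
    (hcart : IsPullback a.act (snd G X) φ φ)
    (hloc : NonAbH1.IsLocallyTrivialFor Scheme.fpqcPrecoverage (Over.mk φ.left : Over Y.left)) :
    NonAbH1.IsLocallyTrivialFor Scheme.zariskiPrecoverage (Over.mk φ.left : Over Y.left) := by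
  haveI : IsAffineHom φ.left := TorsorGeom.isAffineHom a φ hcart hloc
  haveI : Flat φ.left := AssocBundle.of_group a φ hcart @Flat hloc inferInstance
  have hgeo := TorsorGeom.isGeomQuot a φ hcart hloc
  haveI : Surjective φ.left := ⟨hgeo.surj⟩
  have key : ∀ y : Y.left, ∃ (W : Y.left.Opens), y ∈ W ∧ ∃ s : W.toScheme ⟶ X.left, s ≫ φ.left = W.ι := by
    intro y
    obtain ⟨U, hU, hyU, -⟩ := exists_isAffineOpen_mem_and_subset (U := (⊤ : Y.left.Opens)) (x := y) trivial
    let V : X.left.Opens := φ.left ⁻¹ᵁ U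
    haveI : IsAffine U.toScheme := hU
    haveI : IsAffine V.toScheme := hU.preimage φ.left
    have hV : Stable a V := by
      show a.act.left ⁻¹ᵁ (φ.left ⁻¹ᵁ U) = (snd G X).left ⁻¹ᵁ (φ.left ⁻¹ᵁ U)
      rw [← Scheme.Hom.comp_preimage, ← Scheme.Hom.comp_preimage, ← Over.comp_left, ← Over.comp_left, hcart.w]
    let φ' : sub V ⟶ sub U := Over.homMk (φ.left ∣_ U) (by
      show φ.left ∣_ U ≫ U.ι ≫ Y.hom = V.ι ≫ X.hom
      rw [morphismRestrict_ι_assoc, Over.w])
    have hφ' : φ' ≫ incl U = incl V ≫ φ := Over.OverMorphism.ext (morphismRestrict_ι _ _)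
    have hcart' : IsPullback (resAct a V hV).act (snd G (sub V)) φ' φ' := by
      refine TorsorComp.isPullback_of_points _ _ ?_ ?_ ?_
      · rw [← cancel_mono (incl U), Category.assoc, Category.assoc, hφ', ← Category.assoc,
          GlueQ.resAct_incl, Category.assoc, hcart.w, whiskerLeft_snd_assoc]
      · intro T x₁ x₂ h
        obtain ⟨g, hg⟩ := TorsorGeom.exists_act a φ hcart T (x₁ ≫ incl V) (x₂ ≫ incl V) (by
          simp only [Category.assoc, ← hφ', reassoc_of% h])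
        refine ⟨g, ?_⟩
        rw [← cancel_mono (incl V), Category.assoc, GlueQ.resAct_incl, lift_whiskerLeft_assoc, hg]
      · intro T g g' x h
        refine TorsorComp.act_inj a φ hcart (x := x ≫ incl V) ?_
        have h' := congrArg (· ≫ incl V) h
        simpa only [Category.assoc, GlueQ.resAct_incl, lift_whiskerLeft_assoc] using h'
    haveI : IsAffine (sub V).left := ‹IsAffine V.toScheme›
    haveI : IsAffine (sub U).left := ‹IsAffine U.toScheme›
    haveI : Flat φ'.left := MorphismProperty.of_isPullback (isPullback_morphismRestrict φ.left U).flip ‹Flat φ.left›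
    haveI : Surjective φ'.left :=
      MorphismProperty.of_isPullback (isPullback_morphismRestrict φ.left U).flip ‹Surjective φ.left›
    obtain ⟨W, hyW, s, hs⟩ := exists_section_affine r hsurj hext (resAct a V hV) φ' hcart'
      (hgeo.subm _ _ _ (isPullback_morphismRestrict φ.left U)) ⟨y, hyU⟩
    refine ⟨U.ι ''ᵁ W, ⟨⟨y, hyU⟩, hyW, rfl⟩, (U.ι.isoImage W).inv ≫ s ≫ V.ι, ?_⟩
    have hs' : s ≫ φ.left ∣_ U = W.ι := hs
    rw [Category.assoc, Category.assoc, ← morphismRestrict_ι, reassoc_of% hs', Scheme.Hom.isoImage_inv_ι]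
  choose W hW s hs using key
  refine ⟨Presieve.ofArrows (fun y => (W y).toScheme) (fun y => (W y).ι), ?_, ?_⟩
  · rw [Scheme.ofArrows_mem_precoverage_iff]
    exact ⟨fun y => ⟨y, ⟨y, hW y⟩, rfl⟩, fun y => inferInstance⟩
  · rintro _ _ ⟨y⟩
    exact ⟨s y, hs y⟩

end

end Groth.Agent.H60.GLSpecial
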