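import Groth.Agent.H60.GLSpecial.Algebra
import Groth.Agent.H60.GlueQ.Restrict
import Groth.Agent.H60.TorsorGeom
import Groth.Agent.H60.TorsorComp
import Groth.Agent.H60.TorsorCat
import Groth.Agent.H60.AssocBundle
import Groth.Agent.Lib.GrpQ.RepMat
import Mathlib.AlgebraicGeometry.ResidueField
import Mathlib.AlgebraicGeometry.Morphisms.Flat
import Mathlib.AlgebraicGeometry.Sites.Fpqc

/-!
A torsor under a group with an equivariant retraction from an open set of matrices is Zariski locally trivial.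
-/

set_option autoImplicit false
set_option backward.isDefEq.respectTransparency false

universe u

open CategoryTheory CategoryTheory.Limits AlgebraicGeometry MonoidalCategory CartesianMonoidalCategory MonObj
open Groth.Agent.Lib Groth.Agent.Lib.GrpQ
open Groth.Agent.H60.GlueQ (sub incl Stable resAct)

namespace Groth.Agent.H60.GLSpecial.Ret

noncomputable section

variable {k : Type u} [Field k] {G X Y : Over (Spec (CommRingCat.of k))} [GrpObj G] {n : ℕ}

/-- A morphism of schemes gives a map of function rings. -/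
abbrev pb {T T' : Over (Spec (CommRingCat.of k))} (g : T ⟶ T') : Γ(T'.left, ⊤) →+* Γ(T.left, ⊤) := g.left.appTop.hom

theorem pb_comp {T T' T'' : Over (Spec (CommRingCat.of k))} (g : T ⟶ T') (h : T' ⟶ T'') (x : Γ(T''.left, ⊤)) :
    pb (g ≫ h) x = pb g (pb h x) := rfl

theorem pb_id {T : Over (Spec (CommRingCat.of k))} (x : Γ(T.left, ⊤)) : pb (𝟙 T) x = x := rfl

theorem pbM_mul {T T' : Over (Spec (CommRingCat.of k))} (g : T ⟶ T') (P Q : Matrix (Fin n) (Fin n) Γ(T'.left, ⊤)) :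
    RepMat.pbM g (P * Q) = RepMat.pbM g P * RepMat.pbM g Q := Matrix.map_mul

/-- A general position combination at a point, for a natural function of matrices. -/
theorem exists_fun_ne_zero {B : Type u} [CommRing B] {κ' : Type u} [Infinite k] [Field κ'] (c : k →+* B) (ev : B →+* κ')
    (D : ∀ {R : Type u} [CommRing R], Matrix (Fin n) (Fin n) R → R)
    (hD : ∀ {R R' : Type u} [CommRing R] [CommRing R'] (f : R →+* R') (M : Matrix (Fin n) (Fin n) R), f (D M) = D (M.map f))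
    (hD1 : ∀ {R : Type u} [CommRing R], D (1 : Matrix (Fin n) (Fin n) R) = 1)
    {ι' : Type u} [Fintype ι'] (w : ι' → Matrix (Fin n) (Fin n) B) (b : ι' → B) (h : ∑ i, b i • w i = 1) :
    ∃ t : ι' → k, ev (D (∑ i, c (t i) • w i)) ≠ 0 := by
  classical
  let Q : MvPolynomial ι' κ' := D (∑ i, (MvPolynomial.X i : MvPolynomial ι' κ') • ((w i).map ev).map MvPolynomial.C)
  have hQ : ∀ s : ι' → B, MvPolynomial.eval (ev ∘ s) Q = ev (D (∑ i, s i • w i)) := fun s => by
    rw [hD, hD]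
    congr 1
    ext i j
    simp [Matrix.sum_apply, map_sum]
  by_contra hcon
  simp only [not_exists, not_not] at hcon
  have hQ0 : Q = 0 := by
    refine MvPolynomial.funext_set (fun _ => Set.range (ev.comp c))
      (fun _ => Set.infinite_range_of_injective (ev.comp c).injective) fun x hx => ?_
    rw [map_zero]
    choose t ht using fun i => hx i (Set.mem_univ i)
    rw [show x = ev ∘ fun i => c (t i) from funext fun i => (ht i).symm, hQ]
    exact hcon t
  have h1 := hQ b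
  rw [h, hQ0, map_zero, hD1, map_one] at h1
  exact zero_ne_one h1

variable (D : ∀ {R : Type u} [CommRing R], Matrix (Fin n) (Fin n) R → R)
  (hD : ∀ {R R' : Type u} [CommRing R] [CommRing R'] (f : R →+* R') (M : Matrix (Fin n) (Fin n) R), f (D M) = D (M.map f))
  (hD1 : ∀ {R : Type u} [CommRing R], D (1 : Matrix (Fin n) (Fin n) R) = 1)

include hD hD1

/-- Equivariant matrices with invertible value at a given point of an affine torsor. -/
theorem exists_equivariant [Infinite k] (r : RepMat.Rep G n) (a : AlgGrp.Action G X) (φ : X ⟶ Y)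
    (hcart : IsPullback a.act (snd G X) φ φ) [IsAffine X.left] [IsAffine Y.left] [Flat φ.left]
    (x₀ : X.left) :
    ∃ M : Matrix (Fin n) (Fin n) Γ(X.left, ⊤),
      RepMat.pbM a.act M = RepMat.pbM (fst G X) r.P * RepMat.pbM (snd G X) M ∧
        x₀ ∈ X.left.basicOpen (D M) := by
  have sq : IsPullback a.act.left (snd G X).left φ.left φ.left := hcart.map (Over.forget _)
  haveI : IsAffine (G ⊗ X).left := IsAffine.of_isPullback sq
  have sq₂ : IsPullback (G ◁ a.act).left (snd G (G ⊗ X) ≫ snd G X).left (snd G X ≫ φ).left φ.left :=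
    (GrpSch.isPullback_whiskerLeft G a.act).paste_vert sq
  letI algB : Algebra Γ(Y.left, ⊤) Γ(X.left, ⊤) := (pb φ).toAlgebra
  letI algC : Algebra Γ(Y.left, ⊤) Γ((G ⊗ X).left, ⊤) := (pb (a.act ≫ φ)).toAlgebra
  letI algD : Algebra Γ(Y.left, ⊤) Γ((G ⊗ (G ⊗ X)).left, ⊤) :=
    ((pb (G ◁ a.act)).comp (pb (a.act ≫ φ))).toAlgebra
  haveI : Module.Flat Γ(Y.left, ⊤) Γ(X.left, ⊤) := φ.left.flat_appTop
  let p : Γ(X.left, ⊤) →ₐ[Γ(Y.left, ⊤)] Γ((G ⊗ X).left, ⊤) :=
    { pb a.act with commutes' := fun _ => rfl }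
  let q : Γ(X.left, ⊤) →ₐ[Γ(Y.left, ⊤)] Γ((G ⊗ X).left, ⊤) :=
    { pb (snd G X) with commutes' := fun y => (congrArg (fun m => pb m y) hcart.w).symm }
  let aD : Γ((G ⊗ X).left, ⊤) →ₐ[Γ(Y.left, ⊤)] Γ((G ⊗ (G ⊗ X)).left, ⊤) :=
    { pb (G ◁ a.act) with commutes' := fun _ => rfl }
  have w₂ : (G ◁ a.act) ≫ a.act ≫ φ = (snd G (G ⊗ X) ≫ snd G X) ≫ φ := by
    rw [hcart.w, ← Category.assoc, whiskerLeft_snd, Category.assoc, hcart.w, Category.assoc]
  let q₂ : Γ(X.left, ⊤) →ₐ[Γ(Y.left, ⊤)] Γ((G ⊗ (G ⊗ X)).left, ⊤) :=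
    { pb (snd G (G ⊗ X) ≫ snd G X) with commutes' := fun y => (congrArg (fun m => pb m y) w₂).symm }
  have hpq := bijective_lift_of_isPushout p q (isPushout_appTop_of_isPullback sq)
  have haq := bijective_lift_of_isPushout aD q₂ (by
    have h := isPushout_appTop_of_isPullback sq₂
    rw [show (snd G X ≫ φ).left.appTop = (a.act ≫ φ).left.appTop by rw [hcart.w]] at h
    exact h)
  let c₁ := lift (fst G (G ⊗ X) * (snd G (G ⊗ X) ≫ fst G X)) (snd G (G ⊗ X) ≫ snd G X)
  have h₁ : (G ◁ a.act) ≫ a.act = c₁ ≫ a.act := by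
    have e : (G ◁ a.act) = lift (fst G (G ⊗ X)) (snd G (G ⊗ X) ≫ a.act) := by ext <;> simp
    rw [e, AlgGrp.Action.lift_mul_act, show lift (snd G (G ⊗ X) ≫ fst G X) (snd G (G ⊗ X) ≫ snd G X) =
      snd G (G ⊗ X) by ext <;> simp]
  obtain ⟨ι', _, w, b, hw, hb⟩ := exists_span p q hpq.surjective aD q₂ haq.injective (pb c₁) (pb (snd G (G ⊗ X)))
    (fun x => congrArg (fun m => pb m x) h₁)
    (fun x => congrArg (fun m => pb m x) (whiskerLeft_snd G a.act))
    (fun x => congrArg (fun m => pb m x) (lift_snd _ _).symm) (fun _ => rfl)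
    (RepMat.pbM (fst G X) r.P) (by
      show RepMat.pbM c₁ (RepMat.pbM (fst G X) r.P) =
        RepMat.pbM (G ◁ a.act) (RepMat.pbM (fst G X) r.P) * RepMat.pbM (snd G (G ⊗ X)) (RepMat.pbM (fst G X) r.P)
      simp only [← RepMat.pbM_comp, c₁, lift_fst, whiskerLeft_fst, r.mul])
    (pb (lift (1 : X ⟶ G) (𝟙 X)))
    (fun x => by
      refine (congrArg (fun m => pb m x) (show lift (1 : X ⟶ G) (𝟙 X) ≫ a.act = 𝟙 X from ?_)).trans rfl
      exact AlgGrp.Action.lift_one_act a _)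
    (fun x => (congrArg (fun m => pb m x) (lift_snd (1 : X ⟶ G) (𝟙 X))).trans rfl)
    (by
      show RepMat.pbM (lift (1 : X ⟶ G) (𝟙 X)) (RepMat.pbM (fst G X) r.P) = 1
      rw [← RepMat.pbM_comp, lift_fst, r.one])
  let cA : k →+* Γ(Y.left, ⊤) := ((Scheme.ΓSpecIso (CommRingCat.of k)).inv ≫ Y.hom.appTop).hom
  obtain ⟨t, ht⟩ := exists_fun_ne_zero ((algebraMap Γ(Y.left, ⊤) Γ(X.left, ⊤)).comp cA)
    (X.left.evaluation ⊤ x₀ trivial).hom D hD hD1 w b hb
  refine ⟨∑ i, algebraMap Γ(Y.left, ⊤) Γ(X.left, ⊤) (cA (t i)) • w i, ?_,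
    (X.left.evaluation_ne_zero_iff_mem_basicOpen x₀ (U := ⊤) trivial _).1 ht⟩
  show (∑ i, algebraMap Γ(Y.left, ⊤) Γ(X.left, ⊤) (cA (t i)) • w i).map p = _ * _
  simp only [algebraMap_smul]
  show p.toLinearMap.mapMatrix _ = _ * q.toLinearMap.mapMatrix _
  simp only [map_sum, map_smul, Finset.mul_sum, Matrix.mul_smul]
  exact Finset.sum_congr rfl fun i _ => congrArg (cA (t i) • ·) (hw i)

variable (r : RepMat.Rep G n)
  (hDmul : ∀ {T : Over (Spec (CommRingCat.of k))} (g : T ⟶ G) (M : Matrix (Fin n) (Fin n) Γ(T.left, ⊤)),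
    ∃ u : Γ(T.left, ⊤), IsUnit u ∧ D (RepMat.pbM g r.P * M) = u * D M)
  (E : ∀ {T : Over (Spec (CommRingCat.of k))} (M : Matrix (Fin n) (Fin n) Γ(T.left, ⊤)), IsUnit (D M) → (T ⟶ G))
  (hEnat : ∀ {T T' : Over (Spec (CommRingCat.of k))} (t : T' ⟶ T) (M : Matrix (Fin n) (Fin n) Γ(T.left, ⊤))
    (h : IsUnit (D M)) (h' : IsUnit (D (RepMat.pbM t M))), t ≫ E M h = E (RepMat.pbM t M) h')
  (hEmul : ∀ {T : Over (Spec (CommRingCat.of k))} (g : T ⟶ G) (M : Matrix (Fin n) (Fin n) Γ(T.left, ⊤))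
    (h : IsUnit (D M)) (h' : IsUnit (D (RepMat.pbM g r.P * M))), E (RepMat.pbM g r.P * M) h' = g * E M h)

include hDmul E hEnat hEmul

/-- The affine case: a section near every point. -/
theorem exists_section_affine [Infinite k] (a : AlgGrp.Action G X) (φ : X ⟶ Y)
    (hcart : IsPullback a.act (snd G X) φ φ) [IsAffine X.left] [IsAffine Y.left] [Flat φ.left] [Surjective φ.left]
    (hsub : Topology.IsQuotientMap φ.left.base) (y : Y.left) :
    ∃ (W : Y.left.Opens), y ∈ W ∧ ∃ s : W.toScheme ⟶ X.left, s ≫ φ.left = W.ι := by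
  obtain ⟨x₀, rfl⟩ := Surjective.surj (f := φ.left) y
  obtain ⟨M, hM, hx₀⟩ := exists_equivariant D hD hD1 r a φ hcart x₀
  let V := X.left.basicOpen (D M)
  have hstab : a.act.left ⁻¹ᵁ V = (snd G X).left ⁻¹ᵁ V := by
    obtain ⟨c, hc, hc'⟩ := hDmul (fst G X) (RepMat.pbM (snd G X) M)
    have h1 : a.act.left.appTop (D M) = c * (snd G X).left.appTop (D M) := by
      refine (hD (pb a.act) M).trans ?_
      refine (congrArg D hM).trans (hc'.trans ?_)
      exact congrArg (c * ·) (hD (pb (snd G X)) M).symm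
    rw [Scheme.preimage_basicOpen_top, Scheme.preimage_basicOpen_top, h1, Scheme.basicOpen_mul,
      Scheme.basicOpen_of_isUnit _ hc, top_inf_eq]
  have sq : IsPullback a.act.left (snd G X).left φ.left φ.left := hcart.map (Over.forget _)
  let W : Y.left.Opens := ⟨φ.left '' (V : Set X.left), hsub.isOpen_preimage.1 (by
    convert V.2 using 1
    refine Set.Subset.antisymm ?_ (Set.subset_preimage_image _ _)
    rintro x ⟨v, hv, he⟩
    obtain ⟨z, hz1, hz2⟩ := Scheme.exists_preimage_of_isPullback sq x v he.symm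
    have : z ∈ a.act.left ⁻¹ᵁ V := by rw [hstab]; show (snd G X).left z ∈ V; rw [hz2]; exact hv
    exact hz1 ▸ this)⟩
  refine ⟨W, ⟨x₀, hx₀, rfl⟩, ?_⟩
  have hWV : φ.left ⁻¹ᵁ W = V := by
    refine le_antisymm (fun x hx => ?_) fun x hx => ⟨x, hx, rfl⟩
    obtain ⟨v, hv, he⟩ := hx
    obtain ⟨z, hz1, hz2⟩ := Scheme.exists_preimage_of_isPullback sq x v he.symm
    have : z ∈ a.act.left ⁻¹ᵁ V := by rw [hstab]; show (snd G X).left z ∈ V; rw [hz2]; exact hv
    exact hz1 ▸ this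
  let V' : X.left.Opens := φ.left ⁻¹ᵁ W
  have hu : IsUnit (D (RepMat.pbM (incl V') M)) := by
    rw [show D (RepMat.pbM (incl V') M) = pb (incl V') (D M) from (hD _ _).symm]
    refine RingedSpace.isUnit_of_isUnit_germ _ _ _ fun x hx => (RingedSpace.mem_basicOpen _ _ x hx).1 ?_
    have h1 : V'.toScheme.basicOpen (V'.ι.appTop (D M)) = ⊤ := by
      rw [← Scheme.preimage_basicOpen_top, eq_top_iff]
      intro v _
      show v.1 ∈ V
      rw [← hWV]
      exact v.2
    exact h1.ge trivial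
  let g : sub V' ⟶ G := E (RepMat.pbM (incl V') M) hu
  let τ : sub V' ⟶ X := lift g⁻¹ (incl V') ≫ a.act
  haveI : Flat (φ.left ∣_ W) := MorphismProperty.of_isPullback (isPullback_morphismRestrict φ.left W).flip ‹Flat φ.left›
  haveI : Surjective (φ.left ∣_ W) :=
    MorphismProperty.of_isPullback (isPullback_morphismRestrict φ.left W).flip ‹Surjective φ.left›
  haveI : QuasiCompact φ.left := inferInstance
  haveI : QuasiCompact (φ.left ∣_ W) :=
    MorphismProperty.of_isPullback (isPullback_morphismRestrict φ.left W).flip ‹QuasiCompact φ.left›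
  have hinv : ∀ {Z : Scheme.{u}} (v₁ v₂ : Z ⟶ V'.toScheme), v₁ ≫ φ.left ∣_ W = v₂ ≫ φ.left ∣_ W →
      v₁ ≫ τ.left = v₂ ≫ τ.left := by
    intro Z v₁ v₂ hv
    have hv' : v₁ ≫ V'.ι ≫ φ.left = v₂ ≫ V'.ι ≫ φ.left := by
      have h := congrArg (· ≫ W.ι) hv
      simpa [morphismRestrict_ι] using h
    let T : Over (Spec (CommRingCat.of k)) := Over.mk (v₁ ≫ (sub V').hom)
    let u₁ : T ⟶ sub V' := Over.homMk v₁ rfl
    let u₂ : T ⟶ sub V' := Over.homMk v₂ (by
      show v₂ ≫ V'.ι ≫ X.hom = v₁ ≫ V'.ι ≫ X.hom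
      rw [← Over.w φ, reassoc_of% hv'])
    obtain ⟨h, hh⟩ := TorsorGeom.exists_act a φ hcart T (u₁ ≫ incl V') (u₂ ≫ incl V') (Over.OverMorphism.ext (by
      simpa [u₁, u₂, GlueQ.incl_left] using hv'))
    have hut : ∀ {T' : Over (Spec (CommRingCat.of k))} (t : T' ⟶ sub V'),
        IsUnit (D (RepMat.pbM t (RepMat.pbM (incl V') M))) := fun t => by
      rw [show D (RepMat.pbM t (RepMat.pbM (incl V') M)) = pb t (D (RepMat.pbM (incl V') M)) from (hD _ _).symm]
      exact hu.map _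
    have he : RepMat.pbM u₁ (RepMat.pbM (incl V') M) =
        RepMat.pbM h r.P * RepMat.pbM u₂ (RepMat.pbM (incl V') M) := by
      rw [← RepMat.pbM_comp, ← RepMat.pbM_comp, ← hh, RepMat.pbM_comp, hM, pbM_mul, ← RepMat.pbM_comp,
        ← RepMat.pbM_comp, lift_fst, lift_snd]
    have hgh : u₁ ≫ g = h * (u₂ ≫ g) := by
      rw [hEnat u₁ _ hu (hut u₁), hEnat u₂ _ hu (hut u₂), ← hEmul h _ (hut u₂) (he ▸ hut u₁)]
      congr 1
    have e : u₁ ≫ τ = u₂ ≫ τ := by
      simp only [τ, comp_lift_assoc, GrpObj.comp_inv]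
      rw [hgh, ← hh, _root_.mul_inv_rev, ← AlgGrp.Action.lift_mul_act, inv_mul_cancel_right]
    exact congrArg (fun m => m.left) e
  let s := EffectiveEpi.desc (φ.left ∣_ W) τ.left fun v₁ v₂ h => hinv v₁ v₂ h
  refine ⟨s, ?_⟩
  rw [← cancel_epi (φ.left ∣_ W), reassoc_of% (EffectiveEpi.fac (φ.left ∣_ W) τ.left fun v₁ v₂ h => hinv v₁ v₂ h),
    morphismRestrict_ι]
  exact congrArg (fun m => m.left) (show τ ≫ φ = incl V' ≫ φ by
    simp only [τ, Category.assoc, hcart.w, lift_snd_assoc])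

/-- Torsors are Zariski locally trivial. -/
theorem isLocallyTrivialFor_zariski [Infinite k] [IsAffineHom G.hom] [Flat G.hom] (a : AlgGrp.Action G X) (φ : X ⟶ Y)
    (hcart : IsPullback a.act (snd G X) φ φ)
    (hloc : NonAbH1.IsLocallyTrivialFor Scheme.fpqcPrecoverage (Over.mk φ.left : Over Y.left)) :
    NonAbH1.IsLocallyTrivialFor Scheme.zariskiPrecoverage (Over.mk φ.left : Over Y.left) := by
  haveI : IsAffineHom φ.left := TorsorGeom.isAffineHom a φ hcart hloc
  haveI : Flat φ.left := AssocBundle.of_group a φ hcart @Flat hloc inferInstance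
  have hgeo := TorsorGeom.isGeomQuot a φ hcart hloc
  haveI : Surjective φ.left := ⟨hgeo.surj⟩
  have key : ∀ y : Y.left, ∃ (W : Y.left.Opens), y ∈ W ∧ ∃ s : W.toScheme ⟶ X.left, s ≫ φ.left = W.ι := by
    intro y
    obtain ⟨U, hU, hyU, -⟩ := exists_isAffineOpen_mem_and_subset (U := (⊤ : Y.left.Opens)) (x := y) trivial
    let V : X.left.Opens := φ.left ⁻¹ᵁ U
    haveI : IsAffine U.toScheme := hU
    haveI : IsAffine V.toScheme := hU.preimage φ.left
    have hV : Stable a V := by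
      show a.act.left ⁻¹ᵁ (φ.left ⁻¹ᵁ U) = (snd G X).left ⁻¹ᵁ (φ.left ⁻¹ᵁ U)
      rw [← Scheme.Hom.comp_preimage, ← Scheme.Hom.comp_preimage, ← Over.comp_left, ← Over.comp_left, hcart.w]
    let φ' : sub V ⟶ sub U := Over.homMk (φ.left ∣_ U) (by
      show φ.left ∣_ U ≫ U.ι ≫ Y.hom = V.ι ≫ X.hom
      rw [morphismRestrict_ι_assoc, Over.w])
    have hφ' : φ' ≫ incl U = incl V ≫ φ := Over.OverMorphism.ext (morphismRestrict_ι _ _)
    have hcart' : IsPullback (resAct a V hV).act (snd G (sub V)) φ' φ' := by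
      refine TorsorComp.isPullback_of_points _ _ ?_ ?_ ?_
      · rw [← cancel_mono (incl U), Category.assoc, Category.assoc, hφ', ← Category.assoc,
          GlueQ.resAct_incl, Category.assoc, hcart.w, whiskerLeft_snd_assoc]
      · intro T x₁ x₂ h
        obtain ⟨g, hg⟩ := TorsorGeom.exists_act a φ hcart T (x₁ ≫ incl V) (x₂ ≫ incl V) (by
          simp only [Category.assoc, ← hφ', reassoc_of% h])
        refine ⟨g, ?_⟩
        rw [← cancel_mono (incl V), Category.assoc, GlueQ.resAct_incl, lift_whiskerLeft_assoc, hg]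
      · intro T g g' x h
        refine TorsorComp.act_inj a φ hcart (x := x ≫ incl V) ?_
        have h' := congrArg (· ≫ incl V) h
        simpa only [Category.assoc, GlueQ.resAct_incl, lift_whiskerLeft_assoc] using h'
    haveI : IsAffine (sub V).left := ‹IsAffine V.toScheme›
    haveI : IsAffine (sub U).left := ‹IsAffine U.toScheme›
    haveI : Flat φ'.left := MorphismProperty.of_isPullback (isPullback_morphismRestrict φ.left U).flip ‹Flat φ.left›
    haveI : Surjective φ'.left :=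
      MorphismProperty.of_isPullback (isPullback_morphismRestrict φ.left U).flip ‹Surjective φ.left›
    obtain ⟨W, hyW, s, hs⟩ := exists_section_affine D hD hD1 r hDmul E hEnat hEmul (resAct a V hV) φ' hcart'
      (hgeo.subm _ _ _ (isPullback_morphismRestrict φ.left U)) ⟨y, hyU⟩
    refine ⟨U.ι ''ᵁ W, ⟨⟨y, hyU⟩, hyW, rfl⟩, (U.ι.isoImage W).inv ≫ s ≫ V.ι, ?_⟩
    have hs' : s ≫ φ.left ∣_ U = W.ι := hs
    rw [Category.assoc, Category.assoc, ← morphismRestrict_ι, reassoc_of% hs', Scheme.Hom.isoImage_inv_ι]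
  choose W hW s hs using key
  refine ⟨Presieve.ofArrows (fun y => (W y).toScheme) (fun y => (W y).ι), ?_, ?_⟩
  · rw [Scheme.ofArrows_mem_precoverage_iff]
    exact ⟨fun y => ⟨y, ⟨y, hW y⟩, rfl⟩, fun y => inferInstance⟩
  · rintro _ _ ⟨y⟩
    exact ⟨s y, hs y⟩

end

end Groth.Agent.H60.GLSpecial.Ret
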