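import Groth.Agent.H60.GLSpecial.Step
import Groth.Agent.S3264
import Groth.Agent.S3265
import Groth.Agent.S3266
import Groth.Agent.S7967
import Groth.Agent.H1.Classical.ComodPts
import Groth.Agent.Lib.Comod.Cartier
import Mathlib.LinearAlgebra.FreeModule.PID

/-!
Connected solvable groups are special in characteristic zero.
-/

set_option autoImplicit false
set_option backward.isDefEq.respectTransparency false

universe u

open CategoryTheory MonoidalCategory CartesianMonoidalCategory MonObj AlgebraicGeometry
open Groth.Agent.Lib Groth.Agent.Lib.RedPts Groth.Agent.Lib.GrpQ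

namespace Groth.Agent.H60.GLSpecial

attribute [local instance] Points.baseAlgebra

noncomputable section

variable {k : Type u} [Field k] [IsAlgClosed k]

theorem noZeroDivisors_of_connected (A : Type u) [CommRing A] [HopfAlgebra k A] [Algebra.FiniteType k A] [_root_.IsReduced A]
    (hconn : ∀ e : A, IsIdempotentElem e → e = 0 ∨ e = 1) : IsDomain A := by
  haveI : Nontrivial A := (Bialgebra.counitAlgHom k A).toRingHom.domain_nontrivial
  haveI : NoZeroDivisors A := by
    refine ⟨fun {a b} h => ?_⟩
    have := H1.Classical.ComodPts.noZeroDivisors (k := k) (A := A) hconn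
    rcases this.eq_zero_or_eq_zero_of_mul_eq_zero (a := ⟨H1.Classical.HopfPts.ev k A a, ⟨a, rfl⟩⟩)
        (b := ⟨H1.Classical.HopfPts.ev k A b, ⟨b, rfl⟩⟩)
        (Subtype.ext (show H1.Classical.HopfPts.ev k A a * H1.Classical.HopfPts.ev k A b = 0 by
          rw [← map_mul, h, map_zero])) with h' | h'
    · exact Or.inl (H1.Classical.HopfPts.ev_injective k A ((congrArg Subtype.val h').trans (map_zero _).symm))
    · exact Or.inr (H1.Classical.HopfPts.ev_injective k A ((congrArg Subtype.val h').trans (map_zero _).symm))
  exact NoZeroDivisors.to_isDomain A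

variable [CharZero k]

/-- A group whose counit is injective is trivial, hence special. -/
theorem special_of_trivial (C : Type u) [CommRing C] [HopfAlgebra k C]
    (h : Function.Injective (Bialgebra.counitAlgHom k C)) : Special (AffQ.sp k C) := by
  have huniq : ∀ {T : Over (Spec (CommRingCat.of k))} (g : T ⟶ AffQ.sp k C), g = 1 := fun g => by
    apply Points.algHomOf_injective
    refine AlgHom.ext fun c => ?_
    rw [Points.algHomOf_one, show c = algebraMap k C (CoalgebraStruct.counit (R := k) c) from h (by simp),
      AlgHom.commutes, Bialgebra.counit_algebraMap]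
  intro X Y b ψ hcart hloc
  let D : ∀ {R : Type u} [CommRing R], Matrix (Fin 1) (Fin 1) R → R := fun M => M 0 0
  exact Ret.isLocallyTrivialFor_zariski D (fun f M => rfl) (fun {R} _ => rfl)
    ⟨1, fun g g' => by simp [RepMat.pbM, Matrix.map_one], fun {T} => by simp [RepMat.pbM, Matrix.map_one]⟩
    (fun {T} g M => ⟨1, isUnit_one, by simp [RepMat.pbM, Matrix.map_one]⟩)
    (fun {T} M h => 1) (fun t M h h' => MonObj.comp_one _)
    (fun g M h h' => by rw [huniq g, _root_.one_mul]) b ψ hcart hloc

theorem one_of_finiteType {B : Type u} [CommRing B] [Algebra k B] (p : MvPolynomial PUnit.{u+1} k →ₐ[k] B)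
    (h : Function.Surjective p) : Algebra.FiniteType k B := Algebra.FiniteType.of_surjective p h

set_option maxHeartbeats 200000 in
/-- Unipotent groups are special. -/
theorem special_of_unipotent (A : Type u) [CommRing A] [HopfAlgebra k A] [Algebra.FiniteType k A] :
    ∀ (I : Ideal A) (C : Type u) [CommRing C] [HopfAlgebra k C] (π : A →ₐc[k] C), Function.Surjective π →
      RingHom.ker (π : A →+* C) = I → HopfRep.IsUnipotent k C → Special (AffQ.sp k C) := by
  haveI : IsNoetherianRing A := Algebra.FiniteType.isNoetherianRing k A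
  intro I
  induction I using WellFoundedGT.induction with
  | ind I ih =>
    intro C _ _ π hπ hker hU
    classical
    haveI : Algebra.FiniteType k C := Algebra.FiniteType.of_surjective (π : A →ₐ[k] C) hπ
    by_cases hinj : Function.Injective (Bialgebra.counitAlgHom k C)
    · exact special_of_trivial C hinj
    haveI : _root_.IsReduced C := Lib.Comod.Cartier.isReduced (k := k) (H := C)
    haveI : IsDomain C := noZeroDivisors_of_connected (k := k) C fun e he => Groth.Agent.S3265.result k C hU e he
    haveI : ((⊥ : Ideal C).restrictScalars k).IsCoideal := Submodule.IsCoideal.mk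
      (fun a ha => by rw [show a = 0 from Ideal.mem_bot.1 ha]; simp)
      (fun a ha => by rw [show a = 0 from Ideal.mem_bot.1 ha, map_zero]; exact map_zero _)
    haveI : (⊥ : Ideal C).IsHopfIdeal k := Ideal.IsHopfIdeal.mk fun a ha => by
      rw [show a = 0 from Ideal.mem_bot.1 ha, map_zero]
      exact zero_mem _
    obtain ⟨x', hx0, hxΔ⟩ := (Groth.Agent.S3264.result k C).1 hU ⊥ fun h => hinj
      ((RingHom.injective_iff_ker_eq_bot _).2 h.symm)
    obtain ⟨x, rfl⟩ := Ideal.Quotient.mk_surjective x'
    have hx : x ≠ 0 := fun h => hx0 (by rw [h, map_zero])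
    have hΔ : CoalgebraStruct.comul (R := k) x = x ⊗ₜ[k] (1 : C) + (1 : C) ⊗ₜ[k] x := by
      let e : C ⧸ (⊥ : Ideal C) →ₐ[k] C := (AlgEquiv.quotientBot k C).toAlgHom
      have h := congrArg (Algebra.TensorProduct.map e e) hxΔ
      have h1 : Algebra.TensorProduct.map e e (CoalgebraStruct.comul (R := k) (Ideal.Quotient.mk (⊥ : Ideal C) x)) =
          CoalgebraStruct.comul (R := k) x := by
        rw [← Bialgebra.Quotient.mkBialgHom_apply (R := k), ← CoalgHomClass.map_comp_comul_apply]
        generalize CoalgebraStruct.comul (R := k) x = w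
        induction w using TensorProduct.induction_on with
        | zero => simp
        | add p q hp hq => simp only [map_add, hp, hq]
        | tmul p q => rfl
      rw [h1] at h
      simpa [e] using h
    have hεx : CoalgebraStruct.counit (R := k) x = 0 := by
      have h := congrArg (fun t => TensorProduct.lid k C ((CoalgebraStruct.counit (R := k) (A := C)).rTensor C t)) hΔ
      simp only [Coalgebra.rTensor_counit_comul, map_add, LinearMap.rTensor_tmul, TensorProduct.lid_tmul,
        Bialgebra.counit_one, one_smul] at h
      have h1 : CoalgebraStruct.counit (R := k) x • (1 : C) = 0 := by rwa [right_eq_add] at h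
      by_contra hne
      exact hne (by simpa using congrArg (CoalgebraStruct.counit (R := k)) h1)
    -- the homomorphism to the additive group
    let g : SymmetricAlgebra k k →ₐ[k] C := SymmetricAlgebra.lift (LinearMap.toSpanSingleton k C x)
    have hg : g (SymmetricAlgebra.ι k k 1) = x := by simp [g]
    let j : SymmetricAlgebra k k →ₐc[k] C := BialgHom.ofAlgHom g
      (SymmetricAlgebra.algHom_ext (LinearMap.ext_ring (by simp [hg, hεx, SymmetricAlgebra.algebraMapInv_ι])))
      (SymmetricAlgebra.algHom_ext (LinearMap.ext_ring (by simp [hg, hΔ])))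
    let f : MvPolynomial PUnit.{u+1} k →ₐ[k] SymmetricAlgebra k k := MvPolynomial.aeval fun _ => SymmetricAlgebra.ι k k 1
    let f' : SymmetricAlgebra k k →ₐ[k] MvPolynomial PUnit.{u+1} k :=
      SymmetricAlgebra.lift (LinearMap.toSpanSingleton k (MvPolynomial PUnit.{u+1} k) (MvPolynomial.X PUnit.unit))
    have hff : f.comp f' = AlgHom.id k (SymmetricAlgebra k k) :=
      SymmetricAlgebra.algHom_ext (LinearMap.ext_ring (by simp [f, f']))
    have hf : Function.Surjective f := fun z => ⟨f' z, AlgHom.congr_fun hff z⟩
    haveI : Algebra.FiniteType k (SymmetricAlgebra k k) := one_of_finiteType f hf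
    have htr : Transcendental k x := fun halg => hx <| by
      have hint : IsIntegral k x := halg.isIntegral
      obtain ⟨c, hc⟩ := minpoly.mem_range_of_degree_eq_one k x
        (IsAlgClosed.degree_eq_one_of_irreducible k (minpoly.irreducible hint))
      have hc' := hεx
      rw [← hc, Bialgebra.counit_algebraMap] at hc'
      rw [← hc, hc', map_zero]
    have hj : Function.Injective j := by
      refine (injective_iff_map_eq_zero _).2 fun z hz => ?_
      obtain ⟨p, rfl⟩ := hf z
      have h2 : MvPolynomial.aeval (fun _ : PUnit.{u+1} => x) p = 0 := by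
        rw [← hz]
        show _ = (g.comp f) p
        exact AlgHom.congr_fun (MvPolynomial.algHom_ext fun _ => by simp [f, hg]) p
      have : p = 0 := (algebraicIndependent_unique_type_iff.2 htr : AlgebraicIndependent k fun _ : PUnit.{u+1} => x)
        (h2.trans (map_zero _).symm)
      rw [this, map_zero]
    haveI := isHopfIdeal_kerIdeal j
    refine special_step j hj (special_Ga k) ?_
    let mk : C →ₐc[k] C ⧸ kerIdeal j := Bialgebra.Quotient.mkBialgHom (R := k) (kerIdeal j)
    refine ih _ ?_ (C ⧸ kerIdeal j) (mk.comp π) (Ideal.Quotient.mk_surjective.comp hπ) rfl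
      (H66.ExactSeq.isUnipotent_of_surjective mk Ideal.Quotient.mk_surjective hU)
    show I < RingHom.ker ((mk.comp π : A →ₐc[k] C ⧸ kerIdeal j) : A →+* C ⧸ kerIdeal j)
    obtain ⟨a, ha⟩ := hπ x
    refine lt_of_le_of_ne (fun c hc => ?_) fun h => hx ?_
    · rw [← hker] at hc
      show mk (π c) = 0
      rw [show π c = 0 from hc, map_zero]
    · have hxm : x ∈ kerIdeal j := by
        rw [← hg]
        refine Ideal.mem_map_of_mem (f := (j : SymmetricAlgebra k k →+* C)) ?_
        show CoalgebraStruct.counit (R := k) (SymmetricAlgebra.ι k k (1 : k)) = 0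
        simp
      have ha' : a ∈ I := by
        rw [h]
        show mk (π a) = 0
        rw [ha]
        exact Ideal.Quotient.eq_zero_iff_mem.2 hxm
      rw [← hker] at ha'
      exact ha.symm.trans ha'

set_option maxHeartbeats 200000 in
/-- Trigonalizable connected groups are special. -/
theorem special_of_trigonalizable (A : Type u) [CommRing A] [HopfAlgebra k A] [Algebra.FiniteType k A] [IsDomain A]
    (hT : HopfRep.IsTrigonalizable k A) : Special (AffQ.sp k A) := by
  classical
  haveI : IsNoetherianRing A := Algebra.FiniteType.isNoetherianRing k A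
  let gm1 : GroupLike k A → A := fun g => g.1 - 1
  obtain ⟨s, hs⟩ := IsNoetherian.noetherian (Ideal.span (Set.range gm1))
  have hfin : ∃ t : Finset (GroupLike k A), Ideal.span (gm1 '' (t : Set (GroupLike k A))) = Ideal.span (Set.range gm1) := by
    have hex : ∀ a ∈ Ideal.span (Set.range gm1), ∃ t : Finset (GroupLike k A), a ∈ Ideal.span (gm1 '' (t : Set _)) := by
      intro a ha
      obtain ⟨T, hT1, hT2⟩ := Submodule.mem_span_finite_of_mem_span ha
      choose g hg using fun z : T => hT1 z.2
      refine ⟨Finset.univ.image g, Ideal.span_mono (fun z hz => ?_) hT2⟩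
      exact ⟨g ⟨z, hz⟩, by simp, hg ⟨z, hz⟩⟩
    choose t ht using fun a : s => hex a (hs ▸ Submodule.subset_span a.2)
    refine ⟨Finset.univ.biUnion t, le_antisymm (Ideal.span_mono (Set.image_subset_range _ _)) ?_⟩
    rw [← hs, Submodule.span_le]
    intro a ha
    exact Ideal.span_mono (Set.image_mono (by
      intro z hz; simp only [Finset.coe_biUnion, Finset.coe_univ, Set.mem_iUnion]; exact ⟨⟨a, ha⟩, trivial, hz⟩)) (ht ⟨a, ha⟩)
  obtain ⟨t, ht⟩ := hfin
  let M₀ : Submodule ℤ (Additive (GroupLike k A)) := Submodule.span ℤ (Additive.ofMul '' (t : Set (GroupLike k A)))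
  haveI : Module.Finite ℤ M₀ := Module.Finite.span_of_finite ℤ ((t.finite_toSet).image _)
  have htf : ∀ (g : GroupLike k A) (m : ℕ), m ≠ 0 → g ^ m = 1 → g = 1 := fun g m hm hg => by
    have hint : IsIntegral k g.1 := IsIntegral.of_pow (Nat.pos_of_ne_zero hm)
      (by rw [← GroupLike.val_pow, hg, GroupLike.val_one]; exact isIntegral_one)
    obtain ⟨c, hc⟩ := minpoly.mem_range_of_degree_eq_one k g.1
      (IsAlgClosed.degree_eq_one_of_irreducible k (minpoly.irreducible hint))
    have h1 := g.2.counit_eq_one
    rw [← hc, Bialgebra.counit_algebraMap] at h1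
    exact GroupLike.val_injective (by rw [← hc, h1, map_one, GroupLike.val_one])
  haveI : Module.IsTorsionFree ℤ M₀ := by
    refine Module.isTorsionFree_iff_smul_eq_zero.2 fun n m h => ?_
    rcases eq_or_ne n 0 with hn | hn
    · exact Or.inl hn
    refine Or.inr (Subtype.ext ?_)
    have h2 : n • (m : Additive (GroupLike k A)) = 0 := congrArg Subtype.val h
    have h3 : n.natAbs • (m : Additive (GroupLike k A)) = 0 := by
      rcases Int.natAbs_eq n with e | e <;> rw [e] at h2
      · rwa [natCast_zsmul] at h2
      · rwa [neg_zsmul, natCast_zsmul, neg_eq_zero] at h2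
    exact congrArg Additive.ofMul (htf (m : Additive (GroupLike k A)).toMul n.natAbs (Int.natAbs_ne_zero.2 hn)
      (congrArg Additive.toMul h3))
  obtain ⟨r, bb⟩ := Module.basisOfFiniteTypeTorsionFree' (R := ℤ) (M := M₀)
  let eA : (Fin r → ℤ) →+ Additive (GroupLike k A) :=
    M₀.subtype.toAddMonoidHom.comp bb.equivFun.symm.toAddMonoidHom
  let e : Multiplicative (Fin r → ℤ) →* GroupLike k A := AddMonoidHom.toMultiplicativeLeft eA
  have he : Function.Injective e := fun a b h => Multiplicative.toAdd.injective
    (bb.equivFun.symm.injective (Subtype.ext (congrArg Additive.ofMul h)))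
  let j : MonoidAlgebra k (Multiplicative (Fin r → ℤ)) →ₐc[k] A :=
    (H66.Trigon2.charMap k A).comp (MonoidAlgebra.mapDomainBialgHom k e)
  have hj : Function.Injective j :=
    H66.Trigon2.injective_charMap.comp (MonoidAlgebra.mapDomain_injective he)
  haveI : Algebra.FiniteType k (MonoidAlgebra k (Multiplicative (Fin r → ℤ))) := inferInstance
  haveI := isHopfIdeal_kerIdeal j
  refine special_step j hj (special_torus k r) ?_
  refine special_of_unipotent A _ (A ⧸ kerIdeal j) (Bialgebra.Quotient.mkBialgHom (R := k) (kerIdeal j))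
    Ideal.Quotient.mk_surjective rfl (H66.Trigon2.isUnipotent_kernel hT _ fun g hg => ?_)
  have hle : Ideal.span (Set.range gm1) ≤ kerIdeal j := by
    rw [← ht, Ideal.span_le]
    rintro _ ⟨g, hg, rfl⟩
    let m : M₀ := ⟨Additive.ofMul g, Submodule.subset_span ⟨g, hg, rfl⟩⟩
    let q := Multiplicative.ofAdd (bb.equivFun m)
    have hq : j (MonoidAlgebra.single q 1) = g.1 := by
      show H66.Trigon2.charMap k A (MonoidAlgebra.mapDomainBialgHom k e (MonoidAlgebra.single q 1)) = _
      rw [show MonoidAlgebra.mapDomainBialgHom k e (MonoidAlgebra.single q 1) = MonoidAlgebra.single (e q) 1 from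
        MonoidAlgebra.mapDomain_single, H66.Trigon2.charMap_single,
        show e q = g from congrArg (fun z : M₀ => (z : Additive (GroupLike k A)).toMul) (bb.equivFun.symm_apply_apply m)]
    show g.1 - 1 ∈ kerIdeal j
    rw [← hq, show j (MonoidAlgebra.single q (1 : k)) - 1 =
      (j : _ →+* A) (MonoidAlgebra.single q (1 : k) - 1) by rw [map_sub, map_one]; rfl]
    refine Ideal.mem_map_of_mem _ ?_
    rw [RingHom.mem_ker, map_sub, map_one, Bialgebra.counitAlgHom_apply, MonoidAlgebra.counit_single,
      CommSemiring.counit_apply, sub_self]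
  exact hle (Ideal.subset_span ⟨⟨g, hg⟩, rfl⟩)

end

end Groth.Agent.H60.GLSpecial
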