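import Groth.Agent.H60.GLSpecial.Basics
import Groth.Agent.S20008
import Groth.Agent.Lib.Hopf.Irred
import Groth.Agent.Lib.HopfTransfer.FF

/-!
An extension step: the kernel of an injective map of Hopf algebras.
-/

set_option autoImplicit false
set_option backward.isDefEq.respectTransparency false

universe u

open CategoryTheory MonoidalCategory CartesianMonoidalCategory MonObj AlgebraicGeometry
open Groth.Agent.Lib Groth.Agent.Lib.RedPts Groth.Agent.Lib.GrpQ

namespace Groth.Agent.H60.GLSpecial

attribute [local instance] Points.baseAlgebra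

noncomputable section

variable {k : Type u} [Field k]

/-- The ideal of the kernel of a map of Hopf algebras. -/
abbrev kerIdeal {B C : Type u} [CommRing B] [HopfAlgebra k B] [CommRing C] [HopfAlgebra k C] (j : B →ₐc[k] C) : Ideal C :=
  Ideal.map (j : B →+* C) (RingHom.ker (Bialgebra.counitAlgHom k B))

theorem isHopfIdeal_kerIdeal {B C : Type u} [CommRing B] [HopfAlgebra k B] [CommRing C] [HopfAlgebra k C]
    (j : B →ₐc[k] C) : (kerIdeal j).IsHopfIdeal k := by
  have h : kerIdeal j = SGA3.augIdealSpan k C (j : B →ₐ[k] C).range := by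
    refine le_antisymm (Ideal.map_le_iff_le_comap.2 fun c hc => Ideal.mem_comap.2
      (Ideal.subset_span (α := C) (s := {a | a ∈ (j : B →ₐ[k] C).range ∧ CoalgebraStruct.counit (R := k) a = 0})
        ⟨⟨c, rfl⟩, ?_⟩)) (Ideal.span_le.2 ?_)
    · exact (CoalgHomClass.counit_comp_apply j c).trans hc
    · rintro _ ⟨⟨c, rfl⟩, hc⟩
      exact Ideal.mem_map_of_mem _ ((CoalgHomClass.counit_comp_apply j c).symm.trans hc)
  exact h ▸ Lib.Hopf.Irred.isHopfIdeal_augIdealSpan (Lib.HopfTransfer.isHopfSubalgebra_range j)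

/-- The kernel of a homomorphism is normal. -/
theorem isNormalHom_of_isKernel {S : Scheme.{u}} {N G Q : Over S} [GrpObj N] [GrpObj G] [GrpObj Q]
    {i : N ⟶ G} {q : G ⟶ Q} [IsMonHom q] (hK : AlgGrp.IsKernel i q) : AlgGrp.IsNormalHom i := by
  intro T g n
  obtain ⟨n', hn'⟩ := (GrpQ.mem_kernel hK (g * (n ≫ i) * g⁻¹)).2 (by
    rw [MonObj.mul_comp, MonObj.mul_comp, Category.assoc, GrpQ.kernel_comp hK, MonObj.comp_one, GrpObj.inv_comp,
      _root_.mul_one, mul_inv_cancel])
  exact ⟨n', hn'.symm⟩

variable [IsAlgClosed k] [CharZero k]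

/-- The extension step. -/
theorem special_step {B C : Type u} [CommRing B] [HopfAlgebra k B] [Algebra.FiniteType k B] [CommRing C]
    [HopfAlgebra k C] [Algebra.FiniteType k C] (j : B →ₐc[k] C) (hj : Function.Injective j)
    [(kerIdeal j).IsHopfIdeal k] (hB : Special (AffQ.sp k B)) (hN : Special (AffQ.sp k (C ⧸ kerIdeal j))) :
    Special (AffQ.sp k C) := by
  haveI : LocallyOfFiniteType (AffQ.sp k C).hom :=
    locallyOfFiniteType_specOverSpec (R := CommRingCat.of k) (A := CommRingCat.of C)
  haveI : LocallyOfFiniteType (AffQ.sp k B).hom :=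
    locallyOfFiniteType_specOverSpec (R := CommRingCat.of k) (A := CommRingCat.of B)
  let mk : C →ₐc[k] C ⧸ kerIdeal j := Bialgebra.Quotient.mkBialgHom (R := k) (kerIdeal j)
  let i := AffQ.homOfBialgHom mk
  let q := AffQ.homOfBialgHom j
  haveI hci : IsClosedImmersion i.left := by
    rw [AffQ.homOfBialgHom_left]
    exact IsClosedImmersion.spec_of_surjective _ Ideal.Quotient.mk_surjective
  haveI : Surjective q.left := (DomFlat.flat_surjective_of_injective j hj).2
  haveI : Mono i := GrpQ.mono_of_left i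
  have hker : AlgGrp.IsKernel i q := by
    refine GrpQ.isKernel_of i ?_ fun T x hx => ?_
    · apply Points.algHomOf_injective
      refine AlgHom.ext fun b => ?_
      rw [AffQ.algHomOf_comp i q (j : B →ₐ[k] C) rfl, Points.algHomOf_one]
      have h : (mk : C →ₐ[k] C ⧸ kerIdeal j) (j b - algebraMap k C (CoalgebraStruct.counit (R := k) b)) = 0 := by
        refine Ideal.Quotient.eq_zero_iff_mem.2 ?_
        rw [← AlgHom.commutes (j : B →ₐ[k] C)]
        show (j : B →+* C) b - (j : B →+* C) (algebraMap k B (CoalgebraStruct.counit (R := k) b)) ∈ _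
        rw [← map_sub]
        refine Ideal.mem_map_of_mem _ ?_
        simp [RingHom.mem_ker]
      have hi : ∀ c, Points.algHomOf i c =
          Points.algHomOf (𝟙 (AffQ.sp k (C ⧸ kerIdeal j))) ((mk : C →ₐ[k] C ⧸ kerIdeal j) c) := fun c => by
        have := AffQ.algHomOf_comp (𝟙 _) i (mk : C →ₐ[k] C ⧸ kerIdeal j) rfl c
        rwa [Category.id_comp] at this
      refine sub_eq_zero.1 ?_
      rw [map_sub] at h
      rw [hi, ← AlgHom.commutes (Points.algHomOf (𝟙 (AffQ.sp k (C ⧸ kerIdeal j)))), ← map_sub,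
        ← AlgHom.commutes (mk : C →ₐ[k] C ⧸ kerIdeal j)]
      exact (congrArg _ h).trans (map_zero _)
    · have hle : kerIdeal j ≤ RingHom.ker (Points.algHomOf x) := by
        refine Ideal.map_le_iff_le_comap.2 fun b hb => ?_
        have h := congrArg (fun z => Points.algHomOf z b) hx
        simp only [AffQ.algHomOf_comp x q (j : B →ₐ[k] C) rfl, Points.algHomOf_one] at h
        rw [Ideal.mem_comap, RingHom.mem_ker]
        refine h.trans ?_
        rw [show CoalgebraStruct.counit (R := k) b = 0 from hb, map_zero]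
      refine ⟨Points.pointOf (Ideal.Quotient.liftₐ (kerIdeal j) (Points.algHomOf x) fun c hc => hle hc), ?_⟩
      apply Points.algHomOf_injective
      refine AlgHom.ext fun c => ?_
      rw [AffQ.algHomOf_comp _ i (mk : C →ₐ[k] C ⧸ kerIdeal j) rfl, Points.algHomOf_pointOf]
      rfl
  haveI : IsAffine (AffQ.sp k C).left := inferInstanceAs (IsAffine (Spec (CommRingCat.of C)))
  haveI : IsAffine (AffQ.sp k B).left := inferInstanceAs (IsAffine (Spec (CommRingCat.of B)))
  intro X Y b ψ hcart hloc
  exact Groth.Agent.S20008.result k (AffQ.sp k C) (AffQ.sp k (C ⧸ kerIdeal j)) (AffQ.sp k B) i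
    (isNormalHom_of_isKernel hker) q hker hN hB X Y b ψ hcart hloc

end

end Groth.Agent.H60.GLSpecial
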